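import Cfsg.Agent.H547.PP.FarBaby
import Cfsg.Agent.H31.Sp.TwE6
import Cfsg.Agent.H648.Loc.NNE6
import Cfsg.Agent.FastGrp
import Cfsg.Agent.Prune
set_option linter.all false
prune_inst 0x7f00000000000000000000000000000000000000000000000000000000000000000000000000000000000000000000000000000000000000000000000000000000000000000000000000000000000000003fffffffffffffffffffffffffffbeffbdffffffff
open scoped Cfsg.Agent.FastGrp

/-!
# The centralizer of a transposition and of an element of order 13 in the Baby Monster (helper182)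
-/

set_option autoImplicit false
set_option linter.unusedSectionVars false

namespace Cfsg.Agent.H182.Bad.BSec

open Subgroup Cfsg Cfsg.Lie

section general

variable {G : Type*} [Group G] [Finite G] {r : ℕ} [hr : Fact r.Prime] {x : G}

/-- an element of order `r` commuting with `x` is a power of `x` if `r²` does not divide `|G|` -/
theorem mem_of_commute (hx : orderOf x = r) (h2 : ¬ r ^ 2 ∣ Nat.card G) {g : G} (hg : orderOf g = r) (hc : Commute g x) :
    g ∈ zpowers x := by
  set H := centralizer ({x} : Set G) with hH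
  have hxH : x ∈ H := mem_centralizer_singleton_iff.2 rfl
  have hgH : g ∈ H := mem_centralizer_singleton_iff.2 hc.eq
  set N : Subgroup H := zpowers (⟨x, hxH⟩ : H) with hN
  have hNn : N.Normal := by
    refine ⟨fun n hn h => ?_⟩
    obtain ⟨i, rfl⟩ := hn
    have h1 : Commute h (⟨x, hxH⟩ : H) := Subtype.ext (mem_centralizer_singleton_iff.1 h.2)
    have h3 : h * (⟨x, hxH⟩ : H) ^ i * h⁻¹ = (⟨x, hxH⟩ : H) ^ i := by
      rw [(h1.zpow_right i).eq, mul_inv_cancel_right]
    exact ⟨i, h3.symm⟩
  have hcN : Nat.card N = r := by rw [hN, Nat.card_zpowers, Subgroup.orderOf_mk, hx]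
  have h3 : (N.index).Coprime r := by
    rw [Nat.coprime_comm, Nat.Prime.coprime_iff_not_dvd hr.out]
    rintro ⟨k, hk⟩
    apply h2
    have h4 := N.card_mul_index
    rw [hcN, hk] at h4
    have h5 : Nat.card H ∣ Nat.card G := card_subgroup_dvd_card H
    rw [← h4] at h5
    exact (Dvd.intro k (by ring)).trans h5
  have h4 : (⟨g, hgH⟩ : H) ^ N.index ∈ N := pow_index_mem N _
  have h5 : N.index.Coprime (orderOf (⟨g, hgH⟩ : H)) := by
    rw [Subgroup.orderOf_mk, hg]
    exact h3
  obtain ⟨m, hm⟩ := exists_pow_eq_self_of_coprime h5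
  have h6 : (⟨g, hgH⟩ : H) ∈ N := by
    rw [← hm]
    exact pow_mem h4 m
  obtain ⟨i, hi⟩ := h6
  exact ⟨i, congrArg Subtype.val hi⟩

/-- The number of the conjugates of an element. -/
theorem card_conj {G : Type*} [Group G] [Finite G] (x : G) :
    Nat.card {g : G // IsConj x g} = (centralizer ({x} : Set G)).index := by
  have h1 : Nat.card (MulAction.orbit (ConjAct G) x) = (centralizer ({x} : Set G)).index := by
    rw [← Nat.card_congr (MulAction.orbitEquivQuotientStabilizer (ConjAct G) x).symm]
    have h2 : (MulAction.stabilizer (ConjAct G) x).index = (centralizer ({x} : Set G)).index := by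
      have h3 : MulAction.stabilizer (ConjAct G) x = (centralizer ({x} : Set G)).comap (ConjAct.ofConjAct : ConjAct G ≃* G).toMonoidHom := by
        ext g
        rw [MulAction.mem_stabilizer_iff, mem_comap, mem_centralizer_singleton_iff, ConjAct.smul_def,
          mul_inv_eq_iff_eq_mul]
        rfl
      rw [h3, index_comap_of_surjective _ (ConjAct.ofConjAct : ConjAct G ≃* G).surjective]
    exact h2
  rw [← h1]
  refine Nat.card_congr (Equiv.subtypeEquivRight fun g => ?_)
  rw [ConjAct.mem_orbit_conjAct, isConj_comm]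

/-- `|{s ~ t : s y = y s}| ≡ |{s ~ t}|` modulo the order `r` of `y`. -/
theorem card_modEq {G : Type*} [Group G] [Finite G] {r : ℕ} [hr : Fact r.Prime] {y : G} (hy : orderOf y = r) (A : Set G)
    (hA : ∀ g : G, ∀ t ∈ A, g * t * g⁻¹ ∈ A) :
    Nat.card A ≡ Nat.card {t : G // t ∈ A ∧ Commute t y} [MOD r] := by
  classical
  let act : MulAction (zpowers y) A :=
    { smul := fun g t => ⟨(g : G) * t * (g : G)⁻¹, hA _ _ t.2⟩
      one_smul := fun t => Subtype.ext (by change (1 : G) * t * (1 : G)⁻¹ = t; group)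
      mul_smul := fun g h t => Subtype.ext (by
        change ((g : G) * h) * t * ((g : G) * h)⁻¹ = g * (h * t * (h : G)⁻¹) * (g : G)⁻¹
        group) }
  have hP : IsPGroup r (zpowers y) := IsPGroup.of_card (n := 1) (by rw [Nat.card_zpowers, hy, pow_one])
  have h1 := hP.card_modEq_card_fixedPoints A
  refine h1.trans ?_
  have h2 : Nat.card (MulAction.fixedPoints (zpowers y) A) = Nat.card {t : G // t ∈ A ∧ Commute t y} := by
    refine Nat.card_congr
      { toFun := fun t => ⟨t.1.1, t.1.2, ?_⟩
        invFun := fun t => ⟨⟨t.1, t.2.1⟩, ?_⟩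
        left_inv := fun _ => rfl
        right_inv := fun _ => rfl }
    · have h3 := t.2 ⟨y, mem_zpowers y⟩
      have h4 : y * (t.1.1) * y⁻¹ = t.1.1 := congrArg Subtype.val h3
      rw [mul_inv_eq_iff_eq_mul] at h4
      exact h4.symm
    · intro g
      apply Subtype.ext
      obtain ⟨i, hi⟩ := g.2
      change (g : G) * t.1 * (g : G)⁻¹ = t.1
      have h3 : Commute t.1 (g : G) := by
        have h4 : y ^ i = (g : G) := hi
        rw [← h4]
        exact t.2.2.zpow_right i
      rw [← h3.eq, mul_inv_cancel_right]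
  rw [h2]

/-- One class of elements of order `r`, `r` exactly divides `|G|`. -/
theorem index_modEq (hx : orderOf x = r) (h2 : ¬ r ^ 2 ∣ Nat.card G) (h1 : ∀ g : G, orderOf g = r → IsConj x g) :
    (centralizer ({x} : Set G)).index ≡ r - 1 [MOD r] := by
  have h3 := card_modEq hx {g : G | IsConj x g} (fun g t ht => ht.trans (isConj_iff.2 ⟨g, rfl⟩))
  have h4 : Nat.card {g : G | IsConj x g} = (centralizer ({x} : Set G)).index := card_conj x
  rw [h4] at h3
  refine h3.trans ?_
  have h5 : Nat.card {t : G // t ∈ {g : G | IsConj x g} ∧ Commute t x} = r - 1 := by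
    have hord : ∀ t : G, IsConj x t → orderOf t = r := by
      intro t ht
      obtain ⟨c, rfl⟩ := isConj_iff.1 ht
      rw [← hx]
      exact MulEquiv.orderOf_eq (MulAut.conj c) x
    have h6 : Nat.card {t : zpowers x // t ≠ 1} = r - 1 := by
      have := Fintype.ofFinite (zpowers x)
      classical
      rw [Nat.card_eq_fintype_card, Fintype.card_subtype_compl, Fintype.card_subtype_eq, ← Nat.card_eq_fintype_card,
        Nat.card_zpowers, hx]
    rw [← h6]
    refine Nat.card_congr
      { toFun := fun t => ⟨⟨t.1, mem_of_commute hx h2 (hord _ t.2.1) t.2.2⟩, ?_⟩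
        invFun := fun t => ⟨t.1.1, ?_, ?_⟩
        left_inv := fun _ => rfl
        right_inv := fun _ => rfl }
    · intro h
      have h7 := hord _ t.2.1
      rw [congrArg Subtype.val h] at h7
      change orderOf (1 : G) = r at h7
      rw [orderOf_one] at h7
      exact hr.out.one_lt.ne h7
    · apply h1
      have h7 : orderOf (t.1.1) ∣ r := by
        rw [← hx]
        exact orderOf_dvd_of_mem_zpowers t.1.2
      rcases (Nat.dvd_prime hr.out).1 h7 with h8 | h8
      · exfalso
        exact t.2 (Subtype.ext (orderOf_eq_one_iff.1 h8))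
      · exact h8
    · obtain ⟨i, hi⟩ := t.1.2
      have h7 : x ^ i = t.1.1 := hi
      rw [← h7]
      exact (Commute.refl x).zpow_left i
  rw [h5]

end general

/-- **The centralizer of an element of order 13 of `²E₆(2)`.** -/
theorem e6_cent13 {K : Type} [Field K] [Fintype K] (hK : Fintype.card K = 4) {x : ↥(twistedE6 K 2)} (hx : orderOf x = 13) :
    Nat.card ↥(centralizer ({x} : Set ↥(twistedE6 K 2))) = 13 := by
  have hcard := H648.Loc.card_e6 K hK
  have hfin : Finite ↥(twistedE6 K 2) := Nat.finite_of_card_ne_zero (by rw [hcard]; norm_num)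
  have h13 : Fact (Nat.Prime 13) := ⟨by norm_num⟩
  have h1 := H31.SpTwE6.cent13 (F := K) (by rw [hK]; norm_num) x hx
  have h2 : 13 ∣ Nat.card ↥(centralizer ({x} : Set ↥(twistedE6 K 2))) := by
    have h3 := _root_.orderOf_dvd_natCard (⟨x, mem_centralizer_singleton_iff.2 rfl⟩ : ↥(centralizer ({x} : Set ↥(twistedE6 K 2))))
    rwa [Subgroup.orderOf_mk, hx] at h3
  have h3 := index_modEq hx (by rw [hcard]; norm_num) (H648.Loc.e6_class K hK hx).1
  have h4 := (centralizer ({x} : Set ↥(twistedE6 K 2))).card_mul_index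
  rw [hcard] at h4
  obtain ⟨k, hk⟩ := h2
  rw [hk] at h1 h4 ⊢
  have h5 : k ∣ 3 := Nat.dvd_of_mul_dvd_mul_left (by norm_num : 0 < 13) h1
  rcases (Nat.dvd_prime Nat.prime_three).1 h5 with rfl | rfl
  · rfl
  · exfalso
    have h6 : (centralizer ({x} : Set ↥(twistedE6 K 2))).index = 76532479683774853939200 / 39 := by omega
    rw [h6] at h3
    norm_num [Nat.ModEq] at h3

/-- the centralizer in `C(t)` -/
theorem inf_dvd_aux {X E : Type*} [Group X] [Finite X] [Group E] [Finite E] {t y : X} {X₀ : Subgroup X} {σ : ↥X₀ →* E}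
    (H : BabyComp.Sec.Data t σ) (hcard : Nat.card ↥(centralizer ({t} : Set X)) = 2 * (2 * Nat.card E))
    (hy : orderOf y = 13) (hty : Commute t y)
    (hE : ∀ x : E, orderOf x = 13 → Nat.card ↥(centralizer ({x} : Set E)) = 13) :
    Nat.card ↥(centralizer ({t} : Set X) ⊓ centralizer ({y} : Set X)) ∣ 52 := by
  classical
  set C := centralizer ({t} : Set X) with hC
  have h2 : Fact (Nat.Prime 2) := ⟨Nat.prime_two⟩
  have hX₀C : X₀ ≤ C := fun m hm => mem_centralizer_singleton_iff.2 (H.comm m hm)
  have ht2 : orderOf t = 2 := orderOf_eq_prime (by rw [pow_two]; exact H.t_sq) H.t_ne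
  -- the order of `X₀`
  have hker : Nat.card σ.ker = 2 := by
    have h3 : σ.ker = zpowers (⟨t, H.mem⟩ : X₀) := by
      ext m
      rw [MonoidHom.mem_ker, H.ker]
      constructor
      · rintro (h | h)
        · have : m = 1 := Subtype.ext h
          rw [this]
          exact one_mem _
        · have : m = ⟨t, H.mem⟩ := Subtype.ext h
          rw [this]
          exact mem_zpowers _
      · rintro ⟨i, hi⟩
        have h4 : t ^ i = (m : X) := congrArg Subtype.val hi
        rcases Int.even_or_odd' i with ⟨k, hk | hk⟩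
        · left
          rw [← h4, hk, zpow_mul]
          have : t ^ (2 : ℤ) = 1 := by
            have h6 : t ^ (2 : ℕ) = 1 := by rw [pow_two]; exact H.t_sq
            exact_mod_cast h6
          rw [this, one_zpow]
        · right
          rw [← h4, hk, zpow_add, zpow_mul, zpow_one]
          have : t ^ (2 : ℤ) = 1 := by
            have h6 : t ^ (2 : ℕ) = 1 := by rw [pow_two]; exact H.t_sq
            exact_mod_cast h6
          rw [this, one_zpow, one_mul]
    rw [h3, Nat.card_zpowers, Subgroup.orderOf_mk, ht2]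
  have hX₀card : Nat.card X₀ = 2 * Nat.card E := by
    have h3 := σ.ker.card_mul_index
    rw [hker, Subgroup.index_ker, MonoidHom.range_eq_top.2 H.surj, card_top] at h3
    exact h3.symm
  have hidx : (X₀.subgroupOf C).index = 2 := by
    have h3 := (X₀.subgroupOf C).card_mul_index
    have h4 : Nat.card (X₀.subgroupOf C) = Nat.card X₀ := Nat.card_congr (subgroupOfEquivOfLe hX₀C).toEquiv
    rw [h4, hcard, hX₀card, mul_comm 2 (2 * Nat.card E)] at h3
    exact Nat.eq_of_mul_eq_mul_left (Nat.mul_pos (by norm_num) Nat.card_pos) h3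
  have hyC : y ∈ C := mem_centralizer_singleton_iff.2 hty.symm.eq
  have hyX : y ∈ X₀ := by
    have h3 : (⟨y, hyC⟩ : C) ^ 2 ∈ X₀.subgroupOf C := by
      rw [pow_two]
      exact mul_self_mem_of_index_two hidx _
    have h4 : y ^ 2 ∈ X₀ := h3
    have h5 : y = (y ^ 2) ^ 7 := by
      rw [← pow_mul, show 2 * 7 = 13 + 1 from rfl, pow_succ, ← hy, pow_orderOf_eq_one, one_mul]
    rw [h5]
    exact pow_mem h4 7
  set D := C ⊓ centralizer ({y} : Set X) with hD
  set D₀ := D ⊓ X₀ with hD₀
  have hD₀X : D₀ ≤ X₀ := inf_le_right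
  -- the order of `D₀`
  have hσy : orderOf (σ ⟨y, hyX⟩) = 13 := by
    have h3 : orderOf (σ ⟨y, hyX⟩) ∣ 13 := by
      rw [← hy, ← Subgroup.orderOf_mk y hyX]
      exact orderOf_map_dvd σ _
    rcases (Nat.dvd_prime (by norm_num : Nat.Prime 13)).1 h3 with h4 | h4
    · exfalso
      rcases (H.ker _).1 (orderOf_eq_one_iff.1 h4) with h5 | h5
      · have h6 : y = 1 := h5
        rw [h6, orderOf_one] at hy
        norm_num at hy
      · have h6 : y = t := h5
        rw [h6, ht2] at hy
        norm_num at hy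
    · exact h4
  let f : D₀ →* E := σ.comp (inclusion hD₀X)
  have hf : ∀ d : D₀, f d = σ ⟨d, hD₀X d.2⟩ := fun d => rfl
  have h3 : Nat.card D₀ ∣ 26 := by
    have h4 := f.ker.card_mul_index
    rw [Subgroup.index_ker] at h4
    have h5 : Nat.card f.ker ∣ 2 := by
      rw [← hker]
      let g : f.ker →* σ.ker :=
        { toFun := fun k => ⟨⟨k.1, hD₀X k.1.2⟩, k.2⟩
          map_one' := rfl
          map_mul' := fun _ _ => rfl }
      refine card_dvd_of_injective g ?_
      intro a b hab
      have h6 : (((g a : σ.ker) : X₀) : X) = ((g b : σ.ker) : X₀) := by rw [hab]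
      exact Subtype.ext (Subtype.ext h6)
    have h6 : Nat.card f.range ∣ 13 := by
      rw [← hE _ hσy]
      apply card_dvd_of_le
      rintro _ ⟨d, rfl⟩
      rw [mem_centralizer_singleton_iff, hf, ← map_mul, ← map_mul]
      congr 1
      apply Subtype.ext
      have h7 : (d : X) ∈ centralizer ({y} : Set X) := d.2.1.2
      exact mem_centralizer_singleton_iff.1 h7
    rw [← h4]
    exact Nat.mul_dvd_mul h5 h6
  -- the index
  have h4 : D₀.relIndex D ∣ 2 := by
    have h5 : (X₀.subgroupOf C).Normal := normal_of_index_eq_two hidx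
    have h6 : (X₀.subgroupOf C).relIndex (D.subgroupOf C) ∣ (X₀.subgroupOf C).index :=
      relIndex_dvd_index_of_normal _ _
    rw [hidx, relIndex_subgroupOf inf_le_left] at h6
    rw [hD₀, inf_relIndex_left]
    exact h6
  have h5 : Nat.card D₀ * D₀.relIndex D = Nat.card D := by
    have h6 := card_mul_index (D₀.subgroupOf D)
    have h7 : Nat.card (D₀.subgroupOf D) = Nat.card D₀ := Nat.card_congr (subgroupOfEquivOfLe inf_le_left).toEquiv
    rw [h7] at h6
    exact h6
  rw [← h5]
  exact Nat.mul_dvd_mul h3 h4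

theorem card_inf_conj {X : Type*} [Group X] (c t y : X) :
    Nat.card ↥(centralizer ({c * t * c⁻¹} : Set X) ⊓ centralizer ({c * y * c⁻¹} : Set X)) =
      Nat.card ↥(centralizer ({t} : Set X) ⊓ centralizer ({y} : Set X)) := by
  have h1 : ∀ g a : X, g * a = a * g ↔ (c * g * c⁻¹) * (c * a * c⁻¹) = (c * a * c⁻¹) * (c * g * c⁻¹) := by
    intro g a
    have e1 : (c * g * c⁻¹) * (c * a * c⁻¹) = c * (g * a) * c⁻¹ := by group
    have e2 : (c * a * c⁻¹) * (c * g * c⁻¹) = c * (a * g) * c⁻¹ := by group
    rw [e1, e2]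
    constructor
    · intro h
      rw [h]
    · intro h
      exact mul_left_cancel (mul_right_cancel h)
  have h2 : (centralizer ({t} : Set X) ⊓ centralizer ({y} : Set X)).map (MulAut.conj c).toMonoidHom =
      centralizer ({c * t * c⁻¹} : Set X) ⊓ centralizer ({c * y * c⁻¹} : Set X) := by
    ext g
    constructor
    · rintro ⟨h, ⟨h3, h4⟩, rfl⟩
      have h3' := mem_centralizer_singleton_iff.1 h3
      have h4' := mem_centralizer_singleton_iff.1 h4
      exact ⟨mem_centralizer_singleton_iff.2 ((h1 _ _).1 h3'), mem_centralizer_singleton_iff.2 ((h1 _ _).1 h4')⟩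
    · rintro ⟨h3, h4⟩
      have h3' := mem_centralizer_singleton_iff.1 h3
      have h4' := mem_centralizer_singleton_iff.1 h4
      have e : g = c * (c⁻¹ * g * c) * c⁻¹ := by group
      rw [e] at h3' h4'
      exact ⟨c⁻¹ * g * c, ⟨mem_centralizer_singleton_iff.2 ((h1 _ _).2 h3'),
        mem_centralizer_singleton_iff.2 ((h1 _ _).2 h4')⟩, e.symm⟩
  rw [← h2]
  exact Subgroup.card_map_of_injective (MulAut.conj c).injective

/-- **`|C(t) ∩ C(y)|` divides 52.** -/
theorem inf_dvd {t y : Spor.BabyMonster}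
    (ht : IsConj (PresentedGroup.of Spor.BabyMonster.Gen.t1 : Spor.BabyMonster) t) (hy : orderOf y = 13)
    (hty : Commute t y) :
    Nat.card ↥(centralizer ({t} : Set Spor.BabyMonster) ⊓ centralizer ({y} : Set Spor.BabyMonster)) ∣ 52 := by
  obtain ⟨K, i1, i2, hK, t', X₀, σ, H, hconj, hcard⟩ := CTwoTab.BInst.exists_sec
  have hfB : Finite Spor.BabyMonster := CTwoTab.BInst.finite_B
  have hcE := H648.Loc.card_e6 K hK
  have hfin : Finite ↥(twistedE6 K 2) := Nat.finite_of_card_ne_zero (by rw [hcE]; norm_num)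
  obtain ⟨c, hc⟩ := isConj_iff.1 (hconj.trans ht).symm
  have hty' : Commute t' (c * y * c⁻¹) := by
    rw [← hc]
    exact (Commute.conj_iff c).2 hty
  have h1 := inf_dvd_aux H (y := c * y * c⁻¹) (by rw [hcard, hcE]) (by
    rw [← hy]
    exact MulEquiv.orderOf_eq (MulAut.conj c) y) hty' (fun x hx => e6_cent13 hK hx)
  rw [← hc, card_inf_conj] at h1
  exact h1

end Cfsg.Agent.H182.Bad.BSec
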